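import Mathlib
import Cfsg.Agent.Lib.Chev.RootSysBasic

/-!
# Orders of the elements of the Weyl group of type `F₄`
-/

set_option autoImplicit false

namespace H5.WF4

open H38 Cfsg Cfsg.Lie

/-- Integral `4 × 4` matrices as records. -/
structure M4 where
  (a00 a01 a02 a03 a10 a11 a12 a13 a20 a21 a22 a23 a30 a31 a32 a33 : ℤ)
  deriving DecidableEq

/-- The product. -/
def M4.mul (A B : M4) : M4 :=
  ⟨A.a00 * B.a00 + A.a01 * B.a10 + A.a02 * B.a20 + A.a03 * B.a30,
   A.a00 * B.a01 + A.a01 * B.a11 + A.a02 * B.a21 + A.a03 * B.a31,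
   A.a00 * B.a02 + A.a01 * B.a12 + A.a02 * B.a22 + A.a03 * B.a32,
   A.a00 * B.a03 + A.a01 * B.a13 + A.a02 * B.a23 + A.a03 * B.a33,
   A.a10 * B.a00 + A.a11 * B.a10 + A.a12 * B.a20 + A.a13 * B.a30,
   A.a10 * B.a01 + A.a11 * B.a11 + A.a12 * B.a21 + A.a13 * B.a31,
   A.a10 * B.a02 + A.a11 * B.a12 + A.a12 * B.a22 + A.a13 * B.a32,
   A.a10 * B.a03 + A.a11 * B.a13 + A.a12 * B.a23 + A.a13 * B.a33,
   A.a20 * B.a00 + A.a21 * B.a10 + A.a22 * B.a20 + A.a23 * B.a30,
   A.a20 * B.a01 + A.a21 * B.a11 + A.a22 * B.a21 + A.a23 * B.a31,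
   A.a20 * B.a02 + A.a21 * B.a12 + A.a22 * B.a22 + A.a23 * B.a32,
   A.a20 * B.a03 + A.a21 * B.a13 + A.a22 * B.a23 + A.a23 * B.a33,
   A.a30 * B.a00 + A.a31 * B.a10 + A.a32 * B.a20 + A.a33 * B.a30,
   A.a30 * B.a01 + A.a31 * B.a11 + A.a32 * B.a21 + A.a33 * B.a31,
   A.a30 * B.a02 + A.a31 * B.a12 + A.a32 * B.a22 + A.a33 * B.a32,
   A.a30 * B.a03 + A.a31 * B.a13 + A.a32 * B.a23 + A.a33 * B.a33⟩

/-- A scalar matrix. -/
def M4.sc (c : ℤ) : M4 := ⟨c, 0, 0, 0, 0, c, 0, 0, 0, 0, c, 0, 0, 0, 0, c⟩

/-- The matrix. -/
def M4.toMat (A : M4) : Matrix (Fin 4) (Fin 4) ℤ :=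
  !![A.a00, A.a01, A.a02, A.a03; A.a10, A.a11, A.a12, A.a13; A.a20, A.a21, A.a22, A.a23; A.a30, A.a31, A.a32, A.a33]

theorem M4.toMat_mul (A B : M4) : (A.mul B).toMat = A.toMat * B.toMat := by
  ext i j
  fin_cases i <;> fin_cases j <;> simp [M4.toMat, M4.mul, Matrix.mul_apply, Fin.sum_univ_four]

theorem M4.toMat_one : (M4.sc 1).toMat = 1 := by decide

theorem M4.toMat_neg : (M4.sc (-1)).toMat = -1 := by decide

/-- Coroot coordinates. -/
def cr (r j : ℕ) : ℤ := (chevF4.coroot.getD r #[]).getD j 0

/-- The matrix of four coroots. -/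
def mk4 (a b c d : ℕ) : M4 :=
  ⟨cr a 0, cr a 1, cr a 2, cr a 3, cr b 0, cr b 1, cr b 2, cr b 3, cr c 0, cr c 1, cr c 2, cr c 3, cr d 0, cr d 1, cr d 2, cr d 3⟩

/-- The test on one matrix. -/
def good (A : M4) : Bool :=
  let B := A.mul A
  let C := B.mul B
  let D := C.mul B
  decide (D = M4.sc 1) || decide (D = M4.sc (-1)) || decide (C.mul C = M4.sc 1)

/-- The table of Cartan integers plus two. -/
def pt (r s : ℕ) : ℕ := (0x43333323332322233232232312122121122212111211111034333233323232232323223131221212122121211121110133432333233223223322311223312211221221121112101144444443333333322222222222222222211111111000000033234332322332321122133221132233212112212110121132333432232323312121221313223232311212122101112123333342223233311212212132322323311121222011111244432224333222144433322222211100032221110222100044234223422331242233144220031122023112201220120042432423242313224231320404213120221312021202102024432243224133222413302042411302221130221022100242234422331422322031142402033142212203112200122024234242313242320213124040231324212021312020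120222432442133224302211300224413322410221132002102222234441222333400011122222233344401112223000122233222113322221143333233221121111033222211332221132321213232212134332321313212110132322121323212123321123223122133423312132311201132231221233211242222203331311144242242402022020033313111422222024222023313131142424224040220202033131311242220222420223133113124422400224402200231331131224202232123212321321232132143311032132123213212321232123123122312231231223134130131223123122312231231231222312231312223131231403123131222313122312223113222132213132221313213041321313222131322132221321321322132213213221310314313221321322132213213212321232123123212312301133412312321231232123212322024221311331320022044220042244213113313220242220222421131313302020220404224242411313133202224202222241113133300202202042422424411131333022222421123321221322311021132312133243312213223211233212123231212232310112123131232334312122323121232311222331122223301111211223323333411222233112223322210003222111044433322222211100043332221444322222012002311220142233144220031122034223312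4423422202102021312021242313204042131202324231324243242022100221130221224133020424113022322413322443224200122012203112220311424020331422233142234223442020120212021312202131240402313242231324232423424002102210221132022113002244133224213322432243244000122201112223000111222222333444122233342223444211111022212111332322323121221211333232224333332121110122121211323232231312212121332323223433323112101121221121233223112233122112323322323343233000000011111111222222222222222222333333334444444110121112112212211221332211322332232233233323433101112111212122121212213132232323223232333233343011111211121222112122121323223233222323332333334 >>> (4 * (48 * r + s))) % 16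

theorem pt_ok : allLt 48 (fun r => allLt 48 fun s => (pt r s : ℤ) == chevF4.pairing r s + 2) = true := by
  decide +kernel

theorem all_good : allLt 48 (fun a0 => allLt 48 fun a1 => !(pt a0 a1 == 1 && pt a1 a0 == 1) ||
    allLt 48 fun a2 => !(pt a0 a2 == 2 && pt a2 a0 == 2 && pt a1 a2 == 0 && pt a2 a1 == 1) ||
    allLt 48 fun a3 => !(pt a0 a3 == 2 && pt a3 a0 == 2 && pt a1 a3 == 2 && pt a3 a1 == 2 && pt a2 a3 == 1 && pt a3 a2 == 1) ||
      good (mk4 a0 a1 a2 a3)) = true := by
  decide +kernel

theorem pt_eq (R : RootSys chevF4) (r s : Fin chevF4.nroots) : (pt r s : ℤ) = R.pair r s + 2 := by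
  have := (allLt_iff _ _).1 ((allLt_iff _ _).1 pt_ok r r.2) s s.2
  rw [← R.pairing_eq]
  simpa using this

/-- Every element of the Weyl group of type `F₄` has order dividing 8 or 6, or sixth power `-1`. -/
theorem orders_aux (R : RS (Fin 48) (Fin 4)) (hcor : ∀ r j, R.cor r j = cr r j)
    (hpt : ∀ r s : Fin 48, (pt r s : ℤ) = R.pair r s + 2)
    (hsim : ∀ i, (R.sim i : ℕ) = chevF4.simple i) {w : Equiv.Perm (Fin 48)} (hw : w ∈ R.W) :
    w ^ 8 = 1 ∨ w ^ 6 = 1 ∨ ∀ r, (w ^ 6) r = R.neg r := by
  have hw' := R.W.inv_mem hw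
  let a : Fin 4 → Fin 48 := fun i => w⁻¹ (R.sim i)
  have hp : ∀ i j : Fin 4, pt (a i) (a j) = pt (chevF4.simple i) (chevF4.simple j) := fun i j => by
    have h1 := hpt (a i) (a j)
    have h2 := hpt (R.sim i) (R.sim j)
    rw [R.pair_W hw', ← h2, hsim, hsim] at h1
    exact_mod_cast h1
  have h0 := (allLt_iff _ _).1 all_good _ (a 0).2
  have h1 := (allLt_iff _ _).1 h0 _ (a 1).2
  rw [hp 0 1, hp 1 0, Bool.or_eq_true] at h1
  have h2 := (allLt_iff _ _).1 (h1.resolve_left (by decide +kernel)) _ (a 2).2
  rw [hp 0 2, hp 2 0, hp 1 2, hp 2 1, Bool.or_eq_true] at h2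
  have h3 := (allLt_iff _ _).1 (h2.resolve_left (by decide +kernel)) _ (a 3).2
  rw [hp 0 3, hp 3 0, hp 1 3, hp 3 1, hp 2 3, hp 3 2, Bool.or_eq_true] at h3
  have h4 := h3.resolve_left (by decide +kernel)
  set A := mk4 (a 0) (a 1) (a 2) (a 3) with hA
  have e1 : ∀ i j : Fin 4, A.toMat i j = R.cor (a i) j := fun i j => by
    rw [hcor]
    fin_cases i <;> fin_cases j <;> rfl
  have e2 : ∀ r, (R.wt (w r) : Fin 4 → ℤ) = A.toMat.mulVec (R.wt r) := fun r => by
    funext i
    rw [← R.pair_sim_left, ← R.pair_W hw', show w⁻¹ (w r) = r by simp, R.pair_eq_sum]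
    simp only [Matrix.mulVec, dotProduct, e1]
    rfl
  have e3 : ∀ (k : ℕ) r, (R.wt ((w ^ k) r) : Fin 4 → ℤ) = (A.toMat ^ k).mulVec (R.wt r) := by
    intro k
    induction k with
    | zero => intro r; simp
    | succ k ih => intro r; rw [pow_succ', Equiv.Perm.mul_apply, e2, ih, Matrix.mulVec_mulVec, pow_succ']
  have p6 : (((A.mul A).mul (A.mul A)).mul (A.mul A)).toMat = A.toMat ^ 6 := by
    simp only [M4.toMat_mul]; noncomm_ring
  have p8 : (((A.mul A).mul (A.mul A)).mul ((A.mul A).mul (A.mul A))).toMat = A.toMat ^ 8 := by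
    simp only [M4.toMat_mul]; noncomm_ring
  simp only [good, Bool.or_eq_true, decide_eq_true_eq] at h4
  rcases h4 with (h | h) | h
  · rw [h, M4.toMat_one] at p6
    refine Or.inr (Or.inl (Equiv.ext fun r => R.wt_inj fun i => ?_))
    rw [e3, ← p6]; simp
  · rw [h, M4.toMat_neg] at p6
    refine Or.inr (Or.inr fun r => R.wt_inj fun i => ?_)
    rw [e3, ← p6, R.wt_neg]; simp [Matrix.neg_mulVec]
  · rw [h, M4.toMat_one] at p8
    refine Or.inl (Equiv.ext fun r => R.wt_inj fun i => ?_)
    rw [e3, ← p8]; simp

theorem orders (R : RootSys chevF4) {w : Equiv.Perm (Fin chevF4.nroots)} (hw : w ∈ R.W) :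
    w ^ 8 = 1 ∨ w ^ 6 = 1 ∨ ∀ r, (w ^ 6) r = R.neg r :=
  orders_aux R.toRS R.cor_eq (pt_eq R) R.sim_eq hw

end H5.WF4
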